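import Cfsg.Agent.H704.S8.Defs
import Cfsg.Agent.H559.S8.Frob
import Mathlib.GroupTheory.SpecificGroups.Cyclic

/-!
# S4908: a Frobenius subgroup kills the noncentral chief factors (helper50)

`chief_of_frobRow : FrobRow c D X → Chief c D X`.
-/

set_option autoImplicit false

namespace Cfsg.Agent.H50.S8

open Cfsg.Agent.H704.S8 (FrobRow Chief)

universe u v

/-- a group that acts on a group `P` of prime order, every nontrivial element of it without nontrivial fixed points, is
cyclic -/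
theorem cyclic_of_frob {X : Type v} [Group X] {P Q : Subgroup X} (hP : (Nat.card P).Prime)
    (hN : Q ≤ Subgroup.normalizer (P : Set X))
    (hfr : ∀ u ∈ P, ∀ g ∈ Q, g * u = u * g → u = 1 ∨ g = 1) : IsCyclic Q := by
  have : Fact (Nat.card P).Prime := ⟨hP⟩
  have hPc : IsCyclic P := isCyclic_of_prime_card rfl
  have hPn : Nontrivial P := by
    have : Finite P := Nat.finite_of_card_ne_zero hP.ne_zero
    exact Finite.one_lt_card_iff_nontrivial.1 hP.one_lt
  obtain ⟨y, hy⟩ := exists_ne (1 : P)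
  let f : Q →* MulAut P := P.normalizerMonoidHom.comp (Subgroup.inclusion hN)
  have hf : Function.Injective f := by
    rw [injective_iff_map_eq_one]
    intro g hg
    have h1 : (g : X) * (y : X) = y * g := by
      have h2 : f g y = y := by rw [hg]; rfl
      have h3 : (g : X) * y * (g : X)⁻¹ = y := congrArg Subtype.val h2
      exact mul_inv_eq_iff_eq_mul.1 h3
    rcases hfr y y.2 g g.2 h1 with h2 | h2
    · exact absurd (Subtype.ext h2) hy
    · exact Subtype.ext h2
  have hA : IsCyclic (MulAut P) :=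
    isCyclic_of_injective (IsCyclic.mulAutMulEquiv P).toMonoidHom (IsCyclic.mulAutMulEquiv P).injective
  exact isCyclic_of_injective f hf

/-- **FROBLEM.** -/
theorem chief_of_frobRow {c : ℕ} {D : Set ℕ} {X : Type v} [Group X] [Finite X] (h : FrobRow c D X) :
    Chief.{u} c D X := by
  obtain ⟨P, Q, hP, hN, hfr, hQ1, hT⟩ := h
  intro Λ _ _ ρ hst x
  by_contra hx
  have : Fact (Nat.card P).Prime := ⟨hP⟩
  have hPc : IsCyclic P := isCyclic_of_prime_card rfl
  have hQc : IsCyclic Q := cyclic_of_frob hP hN hfr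
  obtain ⟨y, hy⟩ := IsCyclic.exists_generator (α := P)
  obtain ⟨z, hz⟩ := IsCyclic.exists_generator (α := Q)
  have hy1 : (y : X) ≠ 1 := by
    intro h1
    have h2 : Subsingleton P := ⟨fun a b => by
      obtain ⟨m, rfl⟩ := Subgroup.mem_zpowers_iff.1 (hy a)
      obtain ⟨n, rfl⟩ := Subgroup.mem_zpowers_iff.1 (hy b)
      have h3 : y = 1 := Subtype.ext h1
      rw [h3, one_zpow, one_zpow]⟩
    have h3 : Nat.card P = 1 := Nat.card_eq_one_iff_unique.2 ⟨h2, ⟨1⟩⟩
    rw [h3] at hP
    exact Nat.not_prime_one hP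
  have hzy : (z : X) * y * (z : X)⁻¹ ∈ P := ((hN z.2) y).1 y.2
  obtain ⟨k, hk⟩ : ∃ k : ℕ, (z : X) * y * (z : X)⁻¹ = (y : X) ^ k := by
    have h1 : (⟨_, hzy⟩ : P) ∈ Subgroup.zpowers y := hy _
    rw [← mem_powers_iff_mem_zpowers] at h1
    obtain ⟨k, hk⟩ := h1
    exact ⟨k, (congrArg Subtype.val hk).symm⟩
  obtain ⟨w, hw, hw'⟩ := Cfsg.Agent.H559.S8.frob ρ (y := (y : X)) (z := (z : X)) (q := orderOf (z : X)) (k := k) hP
    (by rw [← Subgroup.coe_pow, pow_card_eq_one', Subgroup.coe_one]) (orderOf_pos _) (pow_orderOf_eq_one _) hk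
    (fun i hi hiq hmod => by
      have h1 := Cfsg.Agent.H559.S8.zy hk i 1
      have h2 : (y : X) ^ (1 * k ^ i) = (y : X) ^ 1 := by
        rw [one_mul, pow_eq_pow_iff_modEq]
        refine hmod.of_dvd (orderOf_dvd_of_pow_eq_one ?_)
        rw [← Subgroup.coe_pow, pow_card_eq_one', Subgroup.coe_one]
      rw [h2, pow_one] at h1
      rcases hfr y y.2 ((z : X) ^ i) (pow_mem z.2 i) (mul_inv_eq_iff_eq_mul.1 h1) with h3 | h3
      · exact hy1 h3
      · exact (Nat.not_le.2 hiq) (orderOf_le_of_pow_eq_one hi h3)) ⟨⟨x, 1, hx⟩⟩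
  obtain ⟨T, hTw, hTt, hlt, d, hd, hdv⟩ := hst w hw
  have hcon := hT T hTt (by
    rcases hw' with h1 | h1
    · left
      intro g hg
      obtain ⟨n, hn⟩ := Subgroup.mem_zpowers_iff.1 (hy ⟨g, hg⟩)
      have h2 : g = (y : X) ^ n := by
        have := congrArg Subtype.val hn
        rw [Subgroup.coe_zpow] at this
        exact this.symm
      rw [h2]
      exact zpow_mem ((hTw _).2 h1) n
    · right
      intro g hg
      obtain ⟨n, hn⟩ := Subgroup.mem_zpowers_iff.1 (hz ⟨g, hg⟩)
      have h2 : g = (z : X) ^ n := by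
        have := congrArg Subtype.val hn
        rw [Subgroup.coe_zpow] at this
        exact this.symm
      rw [h2]
      exact zpow_mem ((hTw _).2 h1) n) ⟨d, hd, hdv⟩
  exact absurd hlt (Nat.not_lt.2 hcon)

end Cfsg.Agent.H50.S8
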