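import Cfsg.Agent.H50.S8.FrobLem
import Mathlib.GroupTheory.SchurZassenhaus

/-!
# S4908: `FrobRow` from a self-centralising subgroup of prime order (helper50)

* `frobRow_of_norm`: `P` of prime order `p`, `C_X(P) = P`, `|N_X(P)| = p q`, `(p, q) = 1`, `q > 1`; the bound is asked for the
  proper subgroups `T` with `p ∣ |T|` and for those that contain a cyclic subgroup of order `q`;
* `frobRow_of_elts`: from two elements `y`, `z` with `z y z⁻¹ = y ^ k`.
-/

set_option autoImplicit false
set_option linter.unusedSectionVars false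

namespace Cfsg.Agent.H50.S8

open Cfsg.Agent.H704.S8 (FrobRow Chief)

universe u v

variable {c : ℕ} {D : Set ℕ} {X : Type v} [Group X] [Finite X]

/-- **`FrobRow` from a self-centralising subgroup of prime order.** -/
theorem frobRow_of_norm {p q : ℕ} (hp : p.Prime) (hq : 1 < q) (hpq : Nat.Coprime p q) (P : Subgroup X)
    (hP : Nat.card P = p) (hC : ∀ g : X, (∀ u ∈ P, g * u = u * g) → g ∈ P)
    (hN : Nat.card (Subgroup.normalizer (P : Set X)) = p * q)
    (hT : ∀ T : Subgroup X, T ≠ ⊤ → (p ∣ Nat.card T ∨ ∃ Q : Subgroup X, Q ≤ T ∧ IsCyclic Q ∧ Nat.card Q = q) →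
      (∃ d ∈ D, T.index ∣ d) → c * (Nat.card T * Nat.card (ConjClasses T)) ≤ Nat.card X) : FrobRow c D X := by
  classical
  have : Fact p.Prime := ⟨hp⟩
  let N : Subgroup X := Subgroup.normalizer (P : Set X)
  have hPN : P ≤ N := Subgroup.le_normalizer
  let P' : Subgroup N := P.subgroupOf N
  have hn : P'.Normal := Subgroup.normal_in_normalizer
  have hP' : Nat.card P' = p := by
    rw [← hP]
    exact Nat.card_congr (Subgroup.subgroupOfEquivOfLe hPN).toEquiv
  have hidx : P'.index = q := by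
    have h1 := P'.card_mul_index
    rw [hP'] at h1
    exact Nat.eq_of_mul_eq_mul_left hp.pos (h1.trans hN)
  obtain ⟨H, hH⟩ := Subgroup.exists_right_complement'_of_coprime (N := P') (by rw [hP', hidx]; exact hpq)
  have hHc : Nat.card H = q := by
    have h1 := hH.card_mul_card
    rw [hP', show Nat.card N = p * q from hN] at h1
    exact Nat.eq_of_mul_eq_mul_left hp.pos h1
  have hP1 : Nat.card P = p := hP
  let Q : Subgroup X := H.map N.subtype
  have hQc : Nat.card Q = q := by
    rw [← hHc]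
    exact Nat.card_congr (H.equivMapOfInjective N.subtype N.subtype_injective).symm.toEquiv
  have hQN : Q ≤ N := by
    rintro _ ⟨g, -, rfl⟩
    exact g.2
  have hdis : ∀ g ∈ Q, g ∈ P → g = 1 := by
    rintro _ ⟨g, hg, rfl⟩ hgP
    have h1 : g ∈ P' ⊓ H := ⟨Subgroup.mem_subgroupOf.2 hgP, hg⟩
    rw [hH.disjoint.eq_bot, Subgroup.mem_bot] at h1
    rw [h1]
    rfl
  have hfr : ∀ u ∈ P, ∀ g ∈ Q, g * u = u * g → u = 1 ∨ g = 1 := by
    intro u hu g hg hgu
    by_cases hu1 : u = 1
    · exact Or.inl hu1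
    right
    refine hdis g hg (hC g fun w hw => ?_)
    have h1 : (⟨w, hw⟩ : P) ∈ Subgroup.zpowers (⟨u, hu⟩ : P) :=
      mem_zpowers_of_prime_card hP1 (fun h => hu1 (congrArg Subtype.val h))
    obtain ⟨n, hn⟩ := Subgroup.mem_zpowers_iff.1 h1
    have h2 : w = u ^ n := by
      have := congrArg Subtype.val hn
      rw [Subgroup.coe_zpow] at this
      exact this.symm
    rw [h2]
    exact ((show Commute g u from hgu).zpow_right n).eq
  refine ⟨P, Q, by rw [hP]; exact hp, hQN, hfr, ?_, fun T hT1 hT2 hT3 => hT T hT1 ?_ hT3⟩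
  · intro h
    rw [h, Subgroup.card_bot] at hQc
    omega
  · rcases hT2 with h | h
    · left
      rw [← hP]
      exact Subgroup.card_dvd_of_le h
    · right
      exact ⟨Q, h, cyclic_of_frob (by rw [hP]; exact hp) hQN hfr, hQc⟩

/-- **`FrobRow` from two elements.** -/
theorem frobRow_of_elts {p q k : ℕ} (hp : p.Prime) (hq : 1 < q) {y z : X} (hy : orderOf y = p) (hz : orderOf z = q)
    (hzy : z * y * z⁻¹ = y ^ k) (hk : ∀ i, 0 < i → i < q → ¬ k ^ i ≡ 1 [MOD p])
    (hT : ∀ T : Subgroup X, T ≠ ⊤ → (y ∈ T ∨ z ∈ T) →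
      (∃ d ∈ D, T.index ∣ d) → c * (Nat.card T * Nat.card (ConjClasses T)) ≤ Nat.card X) : FrobRow c D X := by
  have : Fact p.Prime := ⟨hp⟩
  have hy1 : y ≠ 1 := by
    rintro rfl
    rw [orderOf_one] at hy
    rw [← hy] at hp
    exact Nat.not_prime_one hp
  have hcp : Nat.card (Subgroup.zpowers y) = p := by rw [Nat.card_zpowers, hy]
  have hcq : Nat.card (Subgroup.zpowers z) = q := by rw [Nat.card_zpowers, hz]
  have hstep : ∀ i j : ℕ, z ^ i * y ^ j * (z ^ i)⁻¹ = y ^ (j * k ^ i) := fun i j =>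
    Cfsg.Agent.H559.S8.zy hzy i j
  have hzN : z ∈ Subgroup.normalizer ((Subgroup.zpowers y : Subgroup X) : Set X) := by
    have h1 : Subgroup.zpowers (z * y * z⁻¹) = Subgroup.zpowers y := by
      apply Subgroup.eq_of_le_of_card_ge
      · rw [Subgroup.zpowers_le, hzy]
        exact pow_mem (Subgroup.mem_zpowers y) k
      · rw [Nat.card_zpowers, Nat.card_zpowers, hy]
        have h2 : orderOf (z * y * z⁻¹) = orderOf y := by
          have := orderOf_injective (MulAut.conj z).toMonoidHom (MulAut.conj z).injective y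
          simpa using this
        rw [h2, hy]
    intro w
    constructor
    · intro hw
      rw [SetLike.mem_coe] at hw ⊢
      obtain ⟨n, rfl⟩ := Subgroup.mem_zpowers_iff.1 hw
      rw [← h1, ← conj_zpow]
      exact zpow_mem (Subgroup.mem_zpowers _) n
    · intro hw
      rw [SetLike.mem_coe] at hw ⊢
      rw [← h1] at hw
      obtain ⟨n, hn⟩ := Subgroup.mem_zpowers_iff.1 hw
      rw [conj_zpow] at hn
      have h3 : w = y ^ n := by
        have h4 : z⁻¹ * (z * y ^ n * z⁻¹) * z = z⁻¹ * (z * w * z⁻¹) * z := congrArg (fun t => z⁻¹ * t * z) hn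
        rw [show z⁻¹ * (z * y ^ n * z⁻¹) * z = y ^ n by group, show z⁻¹ * (z * w * z⁻¹) * z = w by group] at h4
        exact h4.symm
      rw [h3]
      exact zpow_mem (Subgroup.mem_zpowers _) n
  refine ⟨Subgroup.zpowers y, Subgroup.zpowers z, by rw [hcp]; exact hp, by rw [Subgroup.zpowers_le]; exact hzN, ?_, ?_,
    fun T h1 h2 h3 => hT T h1 (by
      rcases h2 with h | h
      · exact Or.inl (h (Subgroup.mem_zpowers y))
      · exact Or.inr (h (Subgroup.mem_zpowers z))) h3⟩
  · intro u hu g hg hgu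
    by_cases hu1 : u = 1
    · exact Or.inl hu1
    right
    obtain ⟨n, rfl⟩ : ∃ n : ℕ, z ^ n = g := by
      rw [← mem_powers_iff_mem_zpowers] at hg
      exact hg
    -- `g` commutes with `y`
    have h1 : (⟨y, Subgroup.mem_zpowers y⟩ : Subgroup.zpowers y) ∈ Subgroup.zpowers (⟨u, hu⟩ : Subgroup.zpowers y) :=
      mem_zpowers_of_prime_card hcp (fun h => hu1 (congrArg Subtype.val h))
    obtain ⟨m, hm⟩ := Subgroup.mem_zpowers_iff.1 h1
    have h2 : y = u ^ m := by
      have := congrArg Subtype.val hm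
      rw [Subgroup.coe_zpow] at this
      exact this.symm
    have h3 : z ^ n * y = y * z ^ n := by
      rw [h2]
      exact ((show Commute (z ^ n) u from hgu).zpow_right m).eq
    -- reduce `n` modulo `q`
    have h4 : z ^ (n % q) = z ^ n := by rw [← hz]; exact pow_mod_orderOf z n
    rw [← h4] at h3 ⊢
    rcases Nat.eq_zero_or_pos (n % q) with h0 | h0
    · rw [h0, pow_zero]
    · exfalso
      refine hk (n % q) h0 (Nat.mod_lt _ (by omega)) ?_
      have h5 := hstep (n % q) 1
      rw [pow_one, one_mul, h3, mul_assoc, mul_inv_cancel, mul_one] at h5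
      have h6 : y ^ 1 = y ^ (k ^ (n % q)) := by rw [pow_one]; exact h5
      rw [pow_eq_pow_iff_modEq, hy] at h6
      exact h6.symm
  · intro h
    have : z = 1 := by
      have h1 : z ∈ Subgroup.zpowers z := Subgroup.mem_zpowers z
      rw [h, Subgroup.mem_bot] at h1
      exact h1
    rw [this, orderOf_one] at hz
    omega

end Cfsg.Agent.H50.S8
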